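import Cfsg.Agent.Lib.Sporadic.J4Pres.Mid.Part0
import Cfsg.Agent.Lib.Sporadic.J4Pres.Mid.Part1
import Cfsg.Agent.Lib.Sporadic.J4Pres.Mid.Part2
import Cfsg.Agent.Lib.Sporadic.J4Pres.Mid.Part3
import Cfsg.Agent.Lib.Sporadic.J4Pres.Mid.Part4
import Cfsg.Agent.Lib.Sporadic.J4Pres.Mid.Part5
import Cfsg.Agent.Lib.Sporadic.J4Pres.Mid.Part6
import Cfsg.Agent.Lib.Sporadic.J4Pres.Mid.Part7
import Cfsg.Agent.Lib.Sporadic.J4Pres.Mid.Part8
import Cfsg.Agent.Lib.Sporadic.J4Pres.Mid.Part9

set_option autoImplicit false
set_option maxRecDepth 20000

/-! Generated certificate: orbit of a subgroup of shape M12:2 on cosets of <x, v> (tools/cosetbound/gen_pairs.py; owner: helper21). -/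

namespace CfsgLib.Sporadic.J4Pres.Mid
open CfsgLib.Recog.SporBound (Q)
open CfsgLib.Sporadic.PairEnum
open CfsgLib.ThreeTrans.CosetIndex (forallFrom)

theorem steps_ok : cert.stepsPart cert.allRels 0 cert.stepChunks = true := by
  have h0 := steps0
  have h1 : cert.stepsPart cert.allRels 0 120 = true := cert.stepsPart_cat h0 steps1 (by decide +kernel) (by decide +kernel)
  have h2 : cert.stepsPart cert.allRels 0 180 = true := cert.stepsPart_cat h1 steps2 (by decide +kernel) (by decide +kernel)
  have h3 : cert.stepsPart cert.allRels 0 240 = true := cert.stepsPart_cat h2 steps3 (by decide +kernel) (by decide +kernel)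
  have h4 : cert.stepsPart cert.allRels 0 300 = true := cert.stepsPart_cat h3 steps4 (by decide +kernel) (by decide +kernel)
  have h5 : cert.stepsPart cert.allRels 0 360 = true := cert.stepsPart_cat h4 steps5 (by decide +kernel) (by decide +kernel)
  have h6 : cert.stepsPart cert.allRels 0 420 = true := cert.stepsPart_cat h5 steps6 (by decide +kernel) (by decide +kernel)
  have h7 : cert.stepsPart cert.allRels 0 480 = true := cert.stepsPart_cat h6 steps7 (by decide +kernel) (by decide +kernel)
  have h8 : cert.stepsPart cert.allRels 0 540 = true := cert.stepsPart_cat h7 steps8 (by decide +kernel) (by decide +kernel)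
  have h9 : cert.stepsPart cert.allRels 0 600 = true := cert.stepsPart_cat h8 steps9 (by decide +kernel) (by decide +kernel)
  have h10 : cert.stepsPart cert.allRels 0 660 = true := cert.stepsPart_cat h9 steps10 (by decide +kernel) (by decide +kernel)
  have h11 : cert.stepsPart cert.allRels 0 720 = true := cert.stepsPart_cat h10 steps11 (by decide +kernel) (by decide +kernel)
  have h12 : cert.stepsPart cert.allRels 0 780 = true := cert.stepsPart_cat h11 steps12 (by decide +kernel) (by decide +kernel)
  have h13 : cert.stepsPart cert.allRels 0 840 = true := cert.stepsPart_cat h12 steps13 (by decide +kernel) (by decide +kernel)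
  have h14 : cert.stepsPart cert.allRels 0 900 = true := cert.stepsPart_cat h13 steps14 (by decide +kernel) (by decide +kernel)
  have h15 : cert.stepsPart cert.allRels 0 960 = true := cert.stepsPart_cat h14 steps15 (by decide +kernel) (by decide +kernel)
  have h16 : cert.stepsPart cert.allRels 0 1020 = true := cert.stepsPart_cat h15 steps16 (by decide +kernel) (by decide +kernel)
  have h17 : cert.stepsPart cert.allRels 0 1080 = true := cert.stepsPart_cat h16 steps17 (by decide +kernel) (by decide +kernel)
  have h18 : cert.stepsPart cert.allRels 0 1140 = true := cert.stepsPart_cat h17 steps18 (by decide +kernel) (by decide +kernel)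
  have h19 : cert.stepsPart cert.allRels 0 1200 = true := cert.stepsPart_cat h18 steps19 (by decide +kernel) (by decide +kernel)
  have h20 : cert.stepsPart cert.allRels 0 1207 = true := cert.stepsPart_cat h19 steps20 (by decide +kernel) (by decide +kernel)
  rw [show cert.stepChunks = 1207 by decide +kernel]
  exact h20

theorem finals_ok : cert.finalsPart 0 cert.finalChunks = true := by
  have h0 := finals0
  rw [show cert.finalChunks = 7 by decide +kernel]
  exact h0

theorem defs_ok : forallFrom cert.defOK 0 cert.nd = true := by
  have h0 := defs0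
  have h1 : forallFrom cert.defOK 0 30000 = true := CfsgLib.Recog.SporBound.forallFrom_cat h0 defs1 (by decide +kernel) (by decide +kernel)
  have h2 : forallFrom cert.defOK 0 45000 = true := CfsgLib.Recog.SporBound.forallFrom_cat h1 defs2 (by decide +kernel) (by decide +kernel)
  have h3 : forallFrom cert.defOK 0 60000 = true := CfsgLib.Recog.SporBound.forallFrom_cat h2 defs3 (by decide +kernel) (by decide +kernel)
  have h4 : forallFrom cert.defOK 0 75000 = true := CfsgLib.Recog.SporBound.forallFrom_cat h3 defs4 (by decide +kernel) (by decide +kernel)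
  have h5 : forallFrom cert.defOK 0 90000 = true := CfsgLib.Recog.SporBound.forallFrom_cat h4 defs5 (by decide +kernel) (by decide +kernel)
  have h6 : forallFrom cert.defOK 0 90683 = true := CfsgLib.Recog.SporBound.forallFrom_cat h5 defs6 (by decide +kernel) (by decide +kernel)
  rw [show cert.nd = 90683 by decide +kernel]
  exact h6

theorem base_ok : (Nat.beq (cert.nodeOf 0) 0 && Nat.ble cert.nd cert.nf) = true := by decide +kernel

theorem valid : cert.OK where
  base := by decide +kernel
  defs := defs_ok
  steps := steps_ok
  finals := finals_ok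

theorem closers_ok : closers.all cert.closesOK = true := by decide +kernel

end CfsgLib.Sporadic.J4Pres.Mid
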