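import Cfsg.Agent.Lib.Sporadic.J4Pres.Mid.Tree0
import Cfsg.Agent.Lib.Sporadic.J4Pres.Mid.Tree1
import Cfsg.Agent.Lib.Sporadic.J4Pres.Mid.Tree2
import Cfsg.Agent.Lib.Sporadic.J4Pres.Mid.Tree3
import Cfsg.Agent.Lib.Sporadic.J4Pres.Mid.Tree4
import Cfsg.Agent.Lib.Sporadic.J4Pres.Mid.Tree5
import Cfsg.Agent.Lib.Sporadic.J4Pres.Mid.Tree6
import Cfsg.Agent.Lib.Sporadic.J4Pres.Mid.Tree7
import Cfsg.Agent.Lib.Sporadic.J4Pres.Mid.Tree8
import Cfsg.Agent.Lib.Sporadic.J4Pres.Mid.Tree9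
import Cfsg.Agent.Lib.Sporadic.J4Pres.Mid.Tree10
import Cfsg.Agent.Lib.Sporadic.J4Pres.Mid.Tree11

set_option autoImplicit false
set_option maxRecDepth 20000

/-! Generated certificate: orbit of a subgroup of shape M12:2 on cosets of <x, v> (tools/cosetbound/gen_pairs.py; owner: helper21). -/

namespace CfsgLib.Sporadic.J4Pres.Mid
open CfsgLib.Recog.SporBound (Q)

noncomputable def factTree : Q (ℕ) := (.node (.node (.node (.node ft6 ft12 ft18 ft24) (.node ft31 ft37 ft43 ft49) (.node ft55 ft61 ft67 ft73) (.node ft79 ft85 ft91 ft97)) (.node (.node ft104 ft110 ft116 ft122) (.node ft129 ft135 ft141 ft147) (.node ft153 ft159 ft165 ft171) (.node ft177 ft183 ft189 ft195)) (.node (.node ft202 ft208 ft214 ft220) (.node ft227 ft233 ft239 ft245) (.node ft251 ft257 ft263 ft269) (.node ft275 ft281 ft287 ft293)) (.node (.node ft300 ft306 ft312 ft318) (.node ft325 ft331 ft337 ft343) (.node ft349 ft355 ft361 ft367) (.node ft373 ft379 ft385 ft391)))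 (.node (.node (.node ft398 ft404 ft410 ft416) (.node ft423 ft429 ft435 ft441) (.node ft447 ft453 ft459 ft465) (.node ft471 ft477 ft483 ft489)) (.node (.node ft496 ft502 ft508 ft514) (.node ft521 ft527 ft533 ft539) (.node ft545 ft551 ft557 ft563) (.node ft569 ft575 ft581 ft587)) (.node (.node ft594 ft600 ft606 ft612) (.node ft619 ft625 ft631 ft637) (.node ft643 ft649 ft655 ft661) (.node ft667 ft673 ft679 ft685)) (.node (.node ft692 ft698 ft704 ft710) (.node ft717 ft723 ft729 ft735) (.node ft741 ft747 ft753 ft759) (.node ft765 ft771 ft777 ft783))) (.node (.node (.node ft790 ft796 ft802 ft808) (.node ft815 ft821 ft827 ft833) (.node ft839 ft845 ft851 ft857) (.node ft863 ft869 ft875 ft881)) (.node (.node ft888 ft894 ft900 ft906) (.node ft913 ft919 ft925 ft931) (.node ft937 ft943 ft949 ft955) (.node ft961 ft967 ft973 ft979)) (.node (.node ft986 ft992 ft998 ft1004) (.node ft1011 ft1017 ft1023 ft1029) (.node ft1035 ft1041 ft1047 ft1053) (.node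 ft1059 ft1065 ft1071 ft1077)) (.node (.node ft1084 ft1090 ft1096 ft1102) (.node ft1109 ft1115 ft1121 ft1127) (.node ft1133 ft1139 ft1145 ft1151) (.node ft1157 ft1163 ft1169 ft1175))) (.node (.node (.node ft1182 ft1188 ft1194 ft1200) (.node ft1207 ft1213 ft1219 ft1225) (.node ft1231 ft1237 ft1243 ft1249) (.node ft1255 ft1261 ft1267 ft1273)) (.node (.node ft1280 ft1286 ft1292 ft1298) (.node ft1305 ft1311 ft1317 ft1323) (.node ft1329 ft1335 ft1341 ft1347) (.node ft1353 ft1359 ft1365 ft1371)) (.node (.node ft1378 ft1384 ft1390 ft1396) (.node ft1403 ft1409 ft1415 ft1421) (.node ft1427 ft1433 ft1439 ft1445) (.node ft1451 ft1457 ft1463 ft1469)) (.node (.node ft1476 ft1482 ft1488 ft1494) (.node ft1501 ft1507 ft1513 ft1519) (.node ft1525 ft1531 ft1537 ft1543) (.node ft1549 ft1555 ft1561 ft1567))))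
noncomputable def nodeTree : Q (ℕ) := (.node ct0 ct1 (.leaf 0) (.leaf 0))
noncomputable def stepTree : Q (List ℕ) := (.node (.node (.node (.node st5 st11 st17 st22) (.node st28 st34 st40 st45) (.node st51 st57 st63 st68) (.node st74 st80 st86 st91)) (.node (.node st97 st103 st109 st114) (.node st120 st126 st132 st137) (.node st143 st149 st155 st160) (.node st166 st172 st178 st183)) (.node (.node st189 st195 st201 st206) (.node st212 st218 st224 st229) (.node st235 st241 st247 st252) (.node st258 st264 st269 st274)) (.node (.node st280 st286 st292 st297) (.node st303 st309 st315 st320) (.node st326 st332 st338 st343) (.node st349 st355 st360 st365))) (.node (.node (.node st371 st377 st383 st388) (.node st394 st400 st406 st411) (.node st417 st423 st429 st434) (.node st440 st446 st452 st457)) (.node (.node st463 st469 st475 st480) (.node st486 st492 st498 st503) (.node st509 st515 st521 st526) (.node st532 st538 st544 st549)) (.node (.node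 st555 st561 st567 st572) (.node st578 st584 st590 st595) (.node st601 st607 st613 st618) (.node st624 st630 st635 st640)) (.node (.node st646 st652 st658 st663) (.node st669 st675 st681 st686) (.node st692 st698 st704 st709) (.node st715 st721 st726 st731))) (.node (.node (.node st737 st743 st749 st754) (.node st760 st766 st772 st777) (.node st783 st789 st795 st800) (.node st806 st812 st818 st823)) (.node (.node st829 st835 st841 st846) (.node st852 st858 st864 st869) (.node st875 st881 st887 st892) (.node st898 st904 st910 st915)) (.node (.node st921 st927 st933 st938) (.node st944 st950 st956 st961) (.node st967 st973 st979 st984) (.node st990 st996 st1001 st1006)) (.node (.node st1012 st1018 st1024 st1029) (.node st1035 st1041 st1047 st1052) (.node st1058 st1064 st1070 st1075) (.node st1081 st1087 st1092 st1097))) (.node (.node (.node st1103 st1109 st1115 st1120) (.node st1126 st1132 st1138 st1143) (.node st1149 st1155 st1161 st1166)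 (.node st1172 st1178 st1184 st1189)) (.node (.node st1195 st1201 st1207 st1212) (.node st1218 st1224 st1230 st1235) (.node st1241 st1247 st1253 st1258) (.node st1264 st1270 st1275 st1280)) (.node (.node st1286 st1292 st1298 st1303) (.node st1309 st1315 st1321 st1326) (.node st1332 st1338 st1344 st1349) (.node st1355 st1361 st1366 st1371)) (.node (.node st1377 st1383 st1389 st1394) (.node st1400 st1406 st1412 st1417) (.node st1423 st1429 st1435 st1440) (.node st1446 st1452 st1457 st1462))))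
noncomputable def finalTree : Q (List ℕ) := et7

/-- The certificate. -/
noncomputable def cert : CfsgLib.Sporadic.PairEnum.Cert where
  n := 144
  nd := 90683
  nf := 167877
  nl := 8
  kl := [0, 4, 6]
  facts := factTree
  cn := nodeTree
  steps := stepTree
  finals := finalTree
  rels := [[0, 0],
    [2, 2, 2],
    [0, 2, 0, 2, 0, 2, 0, 2, 0, 2, 0, 2, 0, 2, 0, 2, 0, 2, 0, 2, 0, 2, 0, 2, 0, 2, 0, 2, 0, 2, 0, 2, 0, 2, 0, 2, 0, 2, 0, 2, 0, 2, 0, 2, 0, 2],
    [0, 3, 0, 2, 0, 3, 0, 2, 0, 3, 0, 2, 0, 3, 0, 2, 0, 3, 0, 2, 0, 3, 0, 2, 0, 3, 0, 2, 0, 3, 0, 2, 0, 3, 0, 2, 0, 3, 0, 2, 0, 3, 0, 2, 0, 3, 0, 2],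
    [0, 3, 0, 3, 0, 2, 0, 2, 0, 3, 0, 3, 0, 2, 0, 2, 0, 3, 0, 3, 0, 2, 0, 2, 0, 3, 0, 3, 0, 2, 0, 2, 0, 3, 0, 3, 0, 2, 0, 2],
    [0, 2, 0, 2, 0, 3, 0, 2, 0, 3, 0, 2, 0, 3, 0, 2, 0, 2, 0, 3, 0, 2, 0, 3, 0, 2, 0, 3, 0, 2, 0, 2, 0, 3, 0, 2, 0, 3, 0, 2, 0, 3, 0, 2, 0, 2, 0, 3, 0, 2, 0, 3, 0, 2, 0, 3],
    [0, 2, 0, 2, 0, 3, 0, 2, 0, 2, 0, 3, 0, 2, 0, 2, 0, 3, 0, 2, 0, 3, 0, 3, 0, 2, 0, 3, 0, 3, 0, 2, 0, 3, 0, 3],
    [0, 3, 0, 2, 0, 2, 0, 3, 0, 2, 0, 2, 0, 3, 0, 2, 0, 2, 0, 3, 0, 2, 0, 2, 0, 3, 0, 2, 0, 2, 0, 3, 0, 2, 0, 2, 0, 3, 0, 2, 0, 2, 0, 3, 0, 2, 0, 2, 0, 3, 0, 2, 0, 2, 0, 3, 0, 2, 0, 2, 0, 3, 0, 2, 0, 2, 0, 3, 0, 2, 0, 2],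
    [0, 3, 0, 2, 0, 2, 0, 3, 0, 2, 0, 2, 0, 3, 0, 3, 0, 2, 0, 3, 0, 2, 0, 2, 0, 3, 0, 2, 0, 2, 0, 3, 0, 3, 0, 2, 0, 3, 0, 2, 0, 2, 0, 3, 0, 2, 0, 2, 0, 3, 0, 3, 0, 2, 0, 3, 0, 2, 0, 2, 0, 3, 0, 2, 0, 2, 0, 3, 0, 3, 0, 2],
    [5, 3, 0, 2, 0, 2],
    [7, 2, 0, 3, 0, 3, 0, 3, 0, 2, 0, 2, 0, 2, 0, 3]]
  subs := [[0],
    [3, 0, 2, 0, 2]]

/-- Traced words with their chains. -/
noncomputable def closers : List (List ℕ × ℕ) :=
  []

end CfsgLib.Sporadic.J4Pres.Mid
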